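import Groth.Agent.AlgSpDec.CodimZero

/-!
Affine neighbourhoods of generic points of irreducible components, in quasi-separated schemes.
-/

universe u

open CategoryTheory AlgebraicGeometry Order TopologicalSpace

namespace Groth.Agent.GenNhd

variable {X : Scheme.{u}} [QuasiSeparatedSpace X]

theorem coheight_eq_zero_of_comp {η : X} (h : closure ({η} : Set X) ∈ irreducibleComponents (X : Type u)) :
    coheight η = 0 :=
  Order.coheight_eq_zero.2 fun z hz => by
    have hs : z ⤳ η := Scheme.le_iff_specializes.1 hz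
    have hsub : closure ({η} : Set X) ⊆ closure {z} :=
      closure_minimal (Set.singleton_subset_iff.2 (specializes_iff_mem_closure.1 hs)) isClosed_closure
    have he := h.2 isIrreducible_singleton.closure hsub
    exact Scheme.le_iff_specializes.2 (specializes_iff_mem_closure.2 (he (subset_closure rfl)))

/-- Finitely many points of codimension zero of a quasi-separated scheme have pairwise disjoint neighbourhoods. -/
theorem exists_disjoint_opens {T : Set X} (hT : T.Finite)
    (h : ∀ x ∈ T, coheight x = 0) :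
    ∃ N : T → X.Opens, (∀ i : T, (i : X) ∈ N i) ∧ Pairwise fun i j => Disjoint (N i : Set X) (N j : Set X) := by
  classical
  haveI := hT.to_subtype
  have key : ∀ i j : T, i ≠ j → ∃ A B : X.Opens, (i : X) ∈ A ∧ (j : X) ∈ B ∧ Disjoint (A : Set X) (B : Set X) := by
    intro i j hij
    have hi : i.1 ∈ (closure {j.1})ᶜ := fun hc =>
      hij (Subtype.ext (AlgSpDec.eq_of_specializes_of_coheight (h _ i.2) (specializes_iff_mem_closure.2 hc)).symm)
    obtain ⟨A, hA, hiA, hAO⟩ := exists_isAffineOpen_mem_and_subset (x := i.1)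
      (U := ⟨(closure {j.1})ᶜ, isClosed_closure.isOpen_compl⟩) hi
    refine ⟨A, ⟨(closure (A : Set X))ᶜ, isClosed_closure.isOpen_compl⟩, hiA,
      AlgSpDec.notMem_closure_of_isCompact hA.isCompact A.isOpen (h _ j.2) (fun hh => hAO hh (subset_closure rfl)), ?_⟩
    exact Set.disjoint_left.2 fun z hz hz' => hz' (subset_closure hz)
  choose A B hA hB hd using key
  refine ⟨fun i => ⟨⋂ j, ⋂ hij : i ≠ j, (A i j hij : Set X) ∩ B j i (Ne.symm hij),
    isOpen_iInter_of_finite fun j => isOpen_iInter_of_finite fun hij => (A i j hij).isOpen.inter (B j i _).isOpen⟩,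
    fun i => Set.mem_iInter₂.2 fun j hij => ⟨hA i j hij, hB j i (Ne.symm hij)⟩, fun i j hij => ?_⟩
  exact Set.disjoint_left.2 fun z hz hz' =>
    Set.disjoint_left.1 (hd i j hij) (Set.mem_iInter₂.1 hz j hij).1 (Set.mem_iInter₂.1 hz' i hij.symm).2

/-- A maximal point outside a quasi-compact open has an affine neighbourhood disjoint from it. -/
theorem exists_affine_nhd_disjoint {η : X} (h : closure ({η} : Set X) ∈ irreducibleComponents (X : Type u))
    {U : X.Opens} (hU : IsCompact (U : Set X)) (hη : η ∉ U) :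
    ∃ V : X.Opens, IsAffineOpen V ∧ η ∈ V ∧ Disjoint U V := by
  have hc : η ∉ closure (U : Set X) :=
    AlgSpDec.notMem_closure_of_isCompact hU U.isOpen (coheight_eq_zero_of_comp h) hη
  obtain ⟨V, hV, hηV, hVU⟩ := exists_isAffineOpen_mem_and_subset (x := η)
    (U := ⟨(closure (U : Set X))ᶜ, isClosed_closure.isOpen_compl⟩) hc
  refine ⟨V, hV, hηV, ?_⟩
  exact disjoint_iff.2 (Opens.ext (Set.disjoint_iff_inter_eq_empty.1
    (Set.disjoint_left.2 fun z hz hz' => hVU hz' (subset_closure hz))))

/-- An affine open containing a point and finitely many maximal points. -/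
theorem exists_affine_containing {n : ℕ} (η : Fin n → X)
    (hη : ∀ i, closure ({η i} : Set X) ∈ irreducibleComponents (X : Type u)) (x : X) :
    ∃ U : X.Opens, IsAffineOpen U ∧ x ∈ U ∧ ∀ i, η i ∈ U := by
  induction n with
  | zero =>
    obtain ⟨U, hU, hxU, -⟩ := exists_isAffineOpen_mem_and_subset (x := x) (U := (⊤ : X.Opens)) trivial
    exact ⟨U, hU, hxU, fun i => i.elim0⟩
  | succ n ih =>
    obtain ⟨U, hU, hxU, hηU⟩ := ih (fun i => η i.castSucc) fun i => hη _
    by_cases hl : η (Fin.last n) ∈ U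
    · exact ⟨U, hU, hxU, Fin.lastCases hl hηU⟩
    obtain ⟨V, hV, hηV, hd⟩ := exists_affine_nhd_disjoint (hη (Fin.last n)) hU.isCompact hl
    exact ⟨U ⊔ V, hU.sup_of_disjoint hV hd, Or.inl hxU,
      Fin.lastCases (Or.inr hηV) fun i => Or.inl (hηU i)⟩

/-- Distinct maximal points have pairwise disjoint affine neighbourhoods. -/
theorem exists_disjoint_affines {n : ℕ} (η : Fin n → X)
    (hη : ∀ i, closure ({η i} : Set X) ∈ irreducibleComponents (X : Type u))
    (hinj : Function.Injective η) :
    ∃ U : Fin n → X.Opens, (∀ i, IsAffineOpen (U i) ∧ η i ∈ U i) ∧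
      (∀ i j, i ≠ j → Disjoint (U i) (U j)) ∧ IsAffineOpen (⨆ i, U i) := by
  obtain ⟨N, hN, hd⟩ := exists_disjoint_opens (T := Set.range η) (Set.finite_range η)
    (by rintro _ ⟨i, rfl⟩; exact coheight_eq_zero_of_comp (hη i))
  choose U hU hηU hUN using fun i =>
    exists_isAffineOpen_mem_and_subset (hN ⟨η i, Set.mem_range_self i⟩)
  have hdis : ∀ i j, i ≠ j → Disjoint (U i) (U j) := fun i j hij => by
    exact disjoint_iff.2 (Opens.ext (Set.disjoint_iff_inter_eq_empty.1
      ((hd fun e => hij (hinj (congrArg Subtype.val e))).mono (hUN i) (hUN j))))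
  exact ⟨U, fun i => ⟨hU i, hηU i⟩, hdis, .iSup_of_disjoint hU fun i j h => hdis i j h⟩

end Groth.Agent.GenNhd
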